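import Cfsg.Agent.Classical.PSLThreeFour

/-!
Forty non-isotropic points of the unitary space over four elements, matched with the forty points of
the symplectic space over three elements, and the transvections acting on both.
-/

set_option autoImplicit false
set_option maxRecDepth 10000

namespace CfsgLib.Linear.Forty

open CfsgLib.Linear.ThreeFour Matrix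

def uTable : Vector ℕ 40 := #v[1, 4, 16, 21, 25, 29, 37, 41, 45, 53, 57, 61, 64, 69, 73, 77, 81, 84, 97, 100, 113, 116, 133, 137, 141, 145, 148, 161, 164, 177, 180, 197, 201, 205, 209, 212, 225, 228, 241, 244]

def wTable : Vector ℕ 40 := #v[1, 3, 4, 36, 75, 39, 40, 37, 43, 76, 79, 73, 7, 52, 49, 46, 16, 61, 12, 28, 19, 57, 63, 66, 48, 9, 27, 22, 58, 13, 31, 70, 64, 67, 25, 34, 10, 30, 21, 55]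

def tTable : Vector ℕ 45 := #v[5, 9, 13, 17, 20, 33, 36, 49, 52, 65, 68, 80, 85, 89, 93, 101, 105, 109, 117, 121, 125, 129, 132, 144, 149, 153, 157, 165, 169, 173, 181, 185, 189, 193, 196, 208, 213, 217, 221, 229, 233, 237, 245, 249, 253]

def idxTable : Vector (Fin 45) 256 := #v[0, 0, 0, 0, 0, 0, 2, 1, 0, 1, 0, 2, 0, 2, 1, 0, 0, 3, 7, 5, 4, 0, 0, 0, 8, 0, 0, 0, 6, 0, 0, 0, 0, 5, 3, 7, 6, 0, 0, 0, 4, 0, 0, 0, 8, 0, 0, 0, 0, 7, 5, 3, 8, 0, 0, 0, 6, 0, 0, 0, 4, 0, 0, 0, 0, 9, 33, 21, 10, 0, 0, 0, 34, 0, 0, 0, 22, 0, 0, 0, 11, 0, 0, 0, 0, 12, 44, 28, 0, 13, 42, 29, 0, 14, 43, 27, 35, 0, 0, 0, 0, 15, 38, 31, 0, 16, 36, 32, 0, 17, 37, 30, 23, 0, 0, 0, 0, 18, 41, 25, 0, 19, 39, 26, 0, 20, 40,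 24, 0, 21, 9, 33, 22, 0, 0, 0, 10, 0, 0, 0, 34, 0, 0, 0, 23, 0, 0, 0, 0, 24, 20, 40, 0, 25, 18, 41, 0, 26, 19, 39, 11, 0, 0, 0, 0, 27, 14, 43, 0, 28, 12, 44, 0, 29, 13, 42, 35, 0, 0, 0, 0, 30, 17, 37, 0, 31, 15, 38, 0, 32, 16, 36, 0, 33, 21, 9, 34, 0, 0, 0, 22, 0, 0, 0, 10, 0, 0, 0, 35, 0, 0, 0, 0, 36, 32, 16, 0, 37, 30, 17, 0, 38, 31, 15, 23, 0, 0, 0, 0, 39, 26, 19, 0, 40, 24, 20, 0, 41, 25, 18, 11, 0, 0, 0, 0, 42, 29, 13, 0, 43, 27, 14, 0, 44, 28, 12]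

def permTable : Vector (Vector (Fin 40) 40) 45 := #v[
  #v[1, 0, 2, 3, 11, 7, 6, 5, 10, 9, 8, 4, 12, 13, 33, 23, 17, 16, 19, 18, 21, 20, 22, 15, 32, 26, 25, 28, 27, 30, 29, 31, 24, 14, 35, 34, 37, 36, 39, 38],
  #v[1, 0, 2, 8, 4, 9, 11, 7, 3, 5, 10, 6, 12, 24, 14, 31, 39, 27, 35, 29, 37, 25, 33, 23, 13, 21, 36, 17, 38, 19, 34, 15, 32, 22, 30, 18, 26, 20, 28, 16],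
  #v[1, 0, 2, 10, 6, 5, 4, 9, 8, 7, 3, 11, 12, 32, 22, 15, 28, 38, 30, 34, 26, 36, 14, 31, 24, 37, 20, 39, 16, 35, 18, 23, 13, 33, 19, 29, 21, 25, 17, 27],
  #v[2, 1, 0, 3, 4, 5, 11, 9, 10, 7, 8, 6, 12, 17, 39, 28, 16, 13, 38, 33, 27, 23, 26, 21, 37, 25, 22, 20, 15, 36, 32, 35, 30, 19, 34, 31, 29, 24, 18, 14],
  #v[0, 2, 1, 3, 6, 9, 4, 7, 10, 5, 8, 11, 12, 16, 18, 20, 13, 17, 14, 39, 15, 28, 25, 27, 29, 22, 26, 23, 21, 24, 37, 34, 36, 38, 31, 35, 32, 30, 33, 19],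
  #v[2, 1, 0, 10, 11, 9, 6, 7, 8, 5, 3, 4, 12, 19, 35, 30, 29, 23, 18, 13, 34, 33, 28, 17, 39, 38, 32, 27, 22, 16, 15, 37, 26, 21, 20, 14, 36, 31, 25, 24],
  #v[0, 2, 1, 8, 11, 5, 6, 9, 3, 7, 10, 4, 12, 18, 20, 16, 15, 30, 13, 19, 14, 35, 27, 29, 25, 24, 39, 22, 28, 23, 17, 36, 38, 34, 33, 21, 31, 37, 32, 26],
  #v[2, 1, 0, 8, 6, 7, 4, 5, 3, 9, 10, 11, 12, 21, 37, 26, 36, 33, 25, 23, 20, 13, 30, 19, 35, 18, 15, 34, 32, 29, 22, 39, 28, 17, 27, 24, 16, 14, 38, 31],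
  #v[0, 2, 1, 10, 4, 7, 11, 5, 8, 9, 3, 6, 12, 20, 16, 18, 14, 37, 15, 26, 13, 21, 29, 25, 27, 23, 19, 24, 35, 22, 30, 38, 34, 36, 32, 28, 33, 17, 31, 39],
  #v[12, 1, 2, 17, 39, 28, 19, 35, 30, 21, 37, 26, 0, 13, 14, 15, 16, 3, 18, 6, 20, 9, 33, 31, 32, 38, 11, 34, 5, 36, 8, 23, 24, 22, 27, 7, 29, 10, 25, 4],
  #v[0, 12, 2, 16, 25, 34, 18, 27, 36, 20, 29, 38, 1, 13, 22, 31, 3, 17, 6, 19, 9, 21, 14, 23, 32, 4, 39, 7, 35, 10, 37, 15, 24, 33, 5, 28, 8, 30, 11, 26],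
  #v[0, 1, 12, 13, 14, 15, 22, 23, 24, 31, 32, 33, 2, 3, 4, 5, 16, 17, 25, 26, 34, 35, 6, 7, 8, 18, 19, 27, 28, 36, 37, 9, 10, 11, 20, 21, 29, 30, 38, 39],
  #v[17, 16, 13, 12, 34, 25, 31, 26, 8, 22, 10, 35, 3, 2, 20, 18, 1, 0, 15, 23, 14, 33, 9, 19, 24, 5, 7, 39, 38, 29, 30, 6, 32, 21, 4, 11, 36, 37, 28, 27],
  #v[39, 16, 14, 25, 12, 34, 6, 32, 21, 30, 23, 11, 4, 18, 2, 20, 1, 38, 13, 19, 15, 8, 22, 10, 35, 3, 26, 28, 27, 29, 9, 37, 7, 33, 5, 24, 36, 31, 17, 0],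
  #v[28, 16, 15, 34, 25, 12, 37, 7, 33, 9, 19, 24, 5, 20, 18, 2, 1, 27, 14, 10, 13, 21, 30, 23, 11, 4, 32, 17, 0, 29, 22, 31, 26, 8, 3, 35, 36, 6, 39, 38],
  #v[19, 18, 13, 22, 4, 37, 12, 36, 27, 31, 28, 11, 6, 2, 16, 20, 14, 33, 1, 0, 15, 23, 3, 21, 24, 25, 26, 8, 10, 35, 34, 9, 32, 17, 30, 29, 7, 5, 38, 39],
  #v[35, 18, 14, 26, 23, 5, 27, 12, 36, 9, 32, 17, 7, 20, 2, 16, 15, 11, 1, 34, 13, 21, 22, 4, 37, 25, 3, 6, 28, 30, 29, 39, 10, 33, 19, 0, 8, 24, 38, 31],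
  #v[30, 18, 15, 3, 21, 24, 36, 27, 12, 39, 10, 33, 8, 16, 20, 2, 13, 17, 1, 29, 14, 4, 26, 23, 5, 25, 22, 7, 32, 19, 0, 31, 28, 11, 35, 34, 6, 37, 38, 9],
  #v[21, 20, 13, 31, 30, 5, 22, 7, 39, 12, 38, 29, 9, 2, 18, 16, 15, 23, 14, 33, 1, 0, 6, 17, 24, 37, 36, 27, 28, 11, 4, 3, 32, 19, 34, 35, 26, 25, 10, 8],
  #v[37, 20, 14, 3, 32, 19, 28, 23, 8, 29, 12, 38, 10, 16, 2, 18, 13, 17, 15, 5, 1, 36, 22, 7, 39, 26, 25, 27, 6, 9, 30, 35, 4, 33, 34, 31, 21, 0, 11, 24],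
  #v[26, 20, 15, 35, 4, 33, 6, 17, 24, 38, 29, 12, 11, 18, 16, 2, 14, 7, 13, 19, 1, 25, 28, 23, 8, 21, 0, 27, 22, 10, 32, 31, 30, 5, 34, 3, 37, 36, 9, 39],
  #v[12, 1, 2, 26, 21, 37, 28, 17, 39, 30, 19, 35, 0, 32, 33, 31, 36, 7, 38, 10, 34, 4, 22, 23, 24, 25, 3, 27, 6, 29, 9, 15, 13, 14, 20, 11, 16, 5, 18, 8],
  #v[0, 12, 2, 25, 34, 16, 27, 36, 18, 29, 38, 20, 1, 24, 33, 15, 5, 37, 8, 39, 11, 35, 22, 31, 13, 3, 26, 6, 28, 9, 30, 23, 32, 14, 4, 21, 7, 17, 10, 19],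
  #v[0, 1, 12, 22, 23, 24, 31, 32, 33, 13, 14, 15, 2, 9, 10, 11, 29, 30, 38, 39, 20, 21, 3, 4, 5, 25, 26, 34, 35, 16, 17, 6, 7, 8, 27, 28, 36, 37, 18, 19],
  #v[26, 25, 22, 12, 16, 34, 13, 35, 8, 31, 10, 17, 3, 6, 14, 30, 4, 11, 18, 19, 37, 36, 2, 29, 27, 1, 0, 24, 32, 23, 15, 9, 28, 33, 5, 7, 21, 20, 38, 39],
  #v[21, 25, 23, 34, 12, 16, 6, 14, 30, 39, 32, 11, 4, 19, 7, 15, 5, 33, 18, 13, 26, 0, 27, 2, 29, 1, 20, 22, 28, 24, 8, 31, 10, 17, 3, 35, 37, 36, 38, 9],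
  #v[37, 25, 24, 16, 34, 12, 19, 7, 15, 9, 28, 33, 5, 13, 35, 8, 3, 17, 18, 6, 21, 20, 29, 27, 2, 1, 36, 23, 10, 22, 30, 39, 32, 11, 4, 14, 26, 0, 38, 31],
  #v[28, 27, 22, 31, 4, 19, 12, 18, 36, 13, 37, 11, 6, 9, 14, 26, 39, 38, 7, 5, 20, 21, 2, 25, 29, 23, 15, 1, 0, 24, 32, 3, 30, 33, 34, 35, 8, 10, 17, 16],
  #v[17, 27, 23, 35, 32, 5, 36, 12, 18, 9, 14, 26, 7, 21, 10, 15, 28, 0, 8, 33, 20, 13, 29, 2, 25, 24, 11, 1, 16, 22, 30, 31, 4, 19, 34, 3, 6, 37, 39, 38],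
  #v[39, 27, 24, 3, 30, 33, 18, 36, 12, 21, 10, 15, 8, 13, 37, 11, 17, 16, 6, 19, 20, 9, 25, 29, 2, 22, 26, 1, 38, 23, 4, 35, 32, 5, 34, 31, 7, 14, 28, 0],
  #v[30, 29, 22, 13, 39, 5, 31, 7, 21, 12, 20, 38, 9, 3, 14, 28, 16, 17, 35, 34, 10, 8, 2, 27, 25, 24, 32, 23, 15, 1, 0, 6, 26, 33, 19, 18, 36, 37, 11, 4],
  #v[19, 29, 23, 3, 14, 28, 37, 32, 8, 38, 12, 20, 10, 17, 4, 15, 16, 13, 30, 0, 11, 33, 25, 2, 27, 22, 26, 24, 5, 1, 18, 31, 7, 21, 35, 34, 36, 6, 9, 39],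
  #v[35, 29, 24, 17, 4, 15, 6, 26, 33, 20, 38, 12, 11, 13, 39, 5, 16, 3, 19, 18, 9, 21, 27, 25, 2, 23, 7, 22, 28, 1, 34, 37, 32, 8, 30, 0, 36, 31, 10, 14],
  #v[12, 1, 2, 35, 30, 19, 37, 26, 21, 39, 28, 17, 0, 24, 22, 23, 29, 11, 25, 5, 27, 8, 14, 15, 13, 18, 7, 20, 10, 16, 4, 31, 32, 33, 34, 3, 36, 6, 38, 9],
  #v[0, 12, 2, 34, 16, 25, 36, 18, 27, 38, 20, 29, 1, 32, 14, 23, 4, 30, 7, 26, 10, 28, 33, 15, 24, 5, 19, 8, 21, 11, 17, 31, 13, 22, 3, 35, 6, 37, 9, 39],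
  #v[0, 1, 12, 31, 32, 33, 13, 14, 15, 22, 23, 24, 2, 6, 7, 8, 36, 37, 18, 19, 27, 28, 9, 10, 11, 38, 39, 20, 21, 29, 30, 3, 4, 5, 34, 35, 16, 17, 25, 26],
  #v[35, 34, 31, 12, 25, 16, 22, 17, 8, 13, 10, 26, 3, 9, 37, 15, 5, 7, 30, 29, 20, 21, 6, 23, 39, 4, 11, 27, 28, 19, 18, 2, 38, 36, 1, 0, 33, 14, 32, 24],
  #v[30, 34, 32, 16, 12, 25, 6, 23, 39, 21, 14, 11, 4, 13, 10, 26, 3, 17, 19, 18, 20, 9, 28, 7, 24, 5, 15, 27, 22, 35, 0, 36, 2, 38, 1, 29, 31, 37, 33, 8],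
  #v[19, 34, 33, 25, 16, 12, 28, 7, 24, 9, 37, 15, 5, 21, 14, 11, 4, 23, 35, 0, 20, 13, 22, 17, 8, 3, 26, 27, 6, 30, 29, 38, 36, 2, 1, 18, 32, 10, 31, 39],
  #v[37, 36, 31, 13, 4, 28, 12, 27, 18, 22, 19, 11, 6, 3, 39, 15, 16, 17, 8, 10, 26, 25, 9, 23, 35, 21, 20, 7, 5, 29, 30, 2, 34, 38, 32, 24, 1, 0, 33, 14],
  #v[26, 36, 32, 17, 14, 5, 18, 12, 27, 9, 23, 35, 7, 13, 4, 28, 16, 3, 6, 19, 21, 20, 30, 10, 24, 37, 0, 8, 15, 29, 22, 38, 2, 34, 33, 11, 1, 25, 31, 39],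
  #v[21, 36, 33, 3, 39, 15, 27, 18, 12, 30, 10, 24, 8, 17, 14, 5, 16, 13, 7, 23, 37, 0, 22, 19, 11, 26, 25, 6, 28, 29, 9, 34, 38, 2, 31, 35, 1, 20, 32, 4],
  #v[39, 38, 31, 22, 21, 5, 13, 7, 30, 12, 29, 20, 9, 6, 35, 15, 28, 27, 18, 19, 11, 4, 3, 23, 37, 25, 26, 17, 16, 10, 8, 2, 36, 34, 33, 14, 32, 24, 1, 0],
  #v[28, 38, 32, 3, 23, 37, 19, 14, 8, 20, 12, 29, 10, 13, 7, 30, 17, 16, 18, 6, 9, 21, 26, 4, 24, 25, 22, 39, 0, 11, 15, 34, 2, 36, 31, 35, 33, 5, 1, 27],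
  #v[17, 38, 33, 26, 4, 24, 6, 35, 15, 29, 20, 12, 11, 19, 14, 8, 39, 0, 18, 13, 10, 23, 22, 21, 5, 25, 3, 28, 27, 9, 30, 36, 34, 2, 32, 7, 31, 37, 1, 16]]

def sTable : Vector (Vector (Fin 4) 40) 45 := #v[
  #v[1, 1, 1, 1, 2, 3, 1, 2, 3, 1, 2, 3, 1, 1, 2, 3, 1, 1, 1, 1, 1, 1, 1, 2, 3, 1, 1, 1, 1, 1, 1, 1, 2, 3, 1, 1, 1, 1, 1, 1],
  #v[2, 3, 1, 3, 1, 2, 3, 1, 2, 3, 1, 2, 1, 3, 1, 2, 2, 3, 2, 3, 2, 3, 3, 1, 2, 2, 3, 2, 3, 2, 3, 3, 1, 2, 2, 3, 2, 3, 2, 3],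
  #v[3, 2, 1, 2, 3, 1, 2, 3, 1, 2, 3, 1, 1, 2, 3, 1, 3, 2, 3, 2, 3, 2, 2, 3, 1, 3, 2, 3, 2, 3, 2, 2, 3, 1, 3, 2, 3, 2, 3, 2],
  #v[1, 1, 1, 1, 1, 1, 2, 2, 2, 3, 3, 3, 1, 1, 2, 3, 1, 1, 2, 2, 3, 3, 1, 2, 3, 1, 1, 2, 2, 3, 3, 1, 2, 3, 1, 1, 2, 2, 3, 3],
  #v[1, 1, 1, 1, 1, 1, 1, 1, 1, 1, 1, 1, 1, 1, 1, 1, 1, 1, 1, 2, 1, 3, 1, 1, 1, 1, 1, 1, 2, 1, 3, 1, 1, 1, 1, 1, 1, 2, 1, 3],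
  #v[2, 1, 3, 3, 3, 3, 1, 1, 1, 2, 2, 2, 1, 1, 2, 3, 3, 3, 1, 1, 2, 2, 1, 2, 3, 3, 3, 1, 1, 2, 2, 1, 2, 3, 3, 3, 1, 1, 2, 2],
  #v[1, 2, 3, 1, 1, 1, 1, 1, 1, 1, 1, 1, 1, 1, 1, 1, 1, 3, 1, 1, 1, 2, 1, 1, 1, 1, 3, 1, 1, 1, 2, 1, 1, 1, 1, 3, 1, 1, 1, 2],
  #v[3, 1, 2, 2, 2, 2, 3, 3, 3, 1, 1, 1, 1, 1, 2, 3, 2, 2, 3, 3, 1, 1, 1, 2, 3, 2, 2, 3, 3, 1, 1, 1, 2, 3, 2, 2, 3, 3, 1, 1],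
  #v[1, 3, 2, 1, 1, 1, 1, 1, 1, 1, 1, 1, 1, 1, 1, 1, 1, 2, 1, 3, 1, 1, 1, 1, 1, 1, 2, 1, 3, 1, 1, 1, 1, 1, 1, 2, 1, 3, 1, 1],
  #v[1, 1, 1, 1, 2, 3, 1, 2, 3, 1, 2, 3, 1, 1, 1, 1, 1, 1, 1, 1, 1, 1, 2, 2, 2, 2, 2, 2, 2, 2, 2, 3, 3, 3, 3, 3, 3, 3, 3, 3],
  #v[1, 1, 1, 1, 1, 1, 1, 1, 1, 1, 1, 1, 1, 1, 1, 1, 1, 1, 1, 1, 1, 1, 1, 1, 1, 1, 2, 1, 2, 1, 2, 1, 1, 1, 1, 3, 1, 3, 1, 3],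
  #v[1, 1, 1, 1, 1, 1, 1, 1, 1, 1, 1, 1, 1, 1, 1, 1, 1, 1, 1, 1, 1, 1, 1, 1, 1, 1, 1, 1, 1, 1, 1, 1, 1, 1, 1, 1, 1, 1, 1, 1],
  #v[1, 1, 1, 1, 3, 2, 3, 3, 1, 2, 1, 2, 1, 1, 3, 2, 1, 1, 3, 2, 2, 3, 3, 3, 1, 3, 2, 1, 1, 1, 1, 2, 1, 2, 2, 3, 1, 1, 1, 1],
  #v[2, 3, 1, 2, 1, 3, 1, 3, 1, 3, 2, 1, 1, 2, 1, 3, 2, 3, 3, 1, 2, 1, 1, 3, 1, 3, 1, 2, 3, 1, 2, 3, 2, 1, 2, 1, 1, 2, 2, 3],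
  #v[3, 2, 1, 3, 2, 1, 2, 1, 3, 1, 1, 2, 1, 3, 2, 1, 3, 2, 3, 1, 2, 1, 2, 1, 3, 3, 1, 3, 2, 1, 3, 1, 1, 2, 2, 1, 1, 3, 3, 2],
  #v[1, 1, 3, 2, 1, 2, 1, 3, 2, 3, 3, 1, 1, 2, 3, 2, 2, 3, 1, 1, 3, 2, 3, 3, 1, 1, 1, 3, 2, 1, 1, 2, 1, 2, 1, 1, 2, 3, 1, 1],
  #v[2, 3, 3, 3, 2, 1, 2, 1, 3, 1, 3, 1, 1, 2, 2, 3, 2, 1, 2, 3, 3, 1, 1, 3, 1, 1, 2, 3, 1, 2, 3, 3, 2, 1, 2, 3, 2, 1, 1, 2],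
  #v[3, 2, 3, 1, 1, 2, 3, 2, 1, 2, 1, 3, 1, 3, 2, 2, 2, 1, 3, 2, 3, 1, 2, 1, 3, 1, 3, 3, 1, 3, 2, 1, 1, 2, 3, 2, 2, 1, 1, 3],
  #v[1, 1, 2, 3, 3, 1, 2, 1, 2, 1, 3, 2, 1, 3, 3, 2, 3, 2, 2, 3, 1, 1, 3, 3, 1, 1, 1, 1, 1, 3, 2, 2, 1, 2, 1, 1, 1, 1, 2, 3],
  #v[2, 3, 2, 1, 3, 1, 3, 2, 1, 2, 1, 3, 1, 2, 3, 3, 3, 1, 2, 1, 2, 3, 1, 3, 1, 2, 3, 1, 2, 3, 1, 3, 2, 1, 1, 2, 2, 3, 2, 1],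
  #v[3, 2, 2, 2, 1, 3, 1, 1, 2, 3, 2, 1, 1, 3, 2, 3, 3, 1, 2, 1, 3, 2, 2, 1, 3, 3, 2, 1, 3, 3, 1, 1, 1, 2, 1, 3, 3, 2, 2, 1],
  #v[2, 1, 1, 1, 2, 3, 1, 2, 3, 1, 2, 3, 3, 3, 3, 3, 3, 3, 3, 3, 3, 3, 1, 1, 1, 1, 1, 1, 1, 1, 1, 2, 2, 2, 2, 2, 2, 2, 2, 2],
  #v[1, 2, 1, 1, 1, 1, 1, 1, 1, 1, 1, 1, 3, 1, 1, 1, 1, 3, 1, 3, 1, 3, 1, 1, 1, 1, 1, 1, 1, 1, 1, 1, 1, 1, 1, 2, 1, 2, 1, 2],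
  #v[1, 1, 2, 1, 1, 1, 1, 1, 1, 1, 1, 1, 3, 1, 1, 1, 1, 1, 1, 1, 1, 1, 1, 1, 1, 1, 1, 1, 1, 1, 1, 1, 1, 1, 1, 1, 1, 1, 1, 1],
  #v[1, 1, 1, 2, 3, 2, 3, 3, 1, 2, 1, 2, 3, 2, 1, 2, 2, 3, 1, 1, 1, 1, 1, 3, 2, 1, 1, 3, 2, 2, 3, 3, 3, 1, 3, 2, 1, 1, 1, 1],
  #v[2, 3, 1, 2, 2, 3, 1, 3, 1, 3, 2, 1, 3, 3, 2, 1, 2, 1, 1, 2, 2, 3, 2, 1, 3, 2, 3, 3, 1, 2, 1, 1, 3, 1, 3, 1, 2, 3, 1, 2],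
  #v[3, 2, 1, 3, 2, 2, 2, 1, 3, 1, 1, 2, 3, 1, 1, 2, 2, 1, 1, 3, 3, 2, 3, 2, 1, 3, 2, 3, 1, 2, 1, 2, 1, 3, 3, 1, 3, 2, 1, 3],
  #v[1, 1, 3, 2, 1, 2, 2, 3, 2, 3, 3, 1, 3, 2, 1, 2, 1, 1, 2, 3, 1, 1, 2, 3, 2, 2, 3, 1, 1, 3, 2, 3, 3, 1, 1, 1, 3, 2, 1, 1],
  #v[2, 3, 3, 3, 2, 1, 2, 2, 3, 1, 3, 1, 3, 3, 2, 1, 2, 3, 2, 1, 1, 2, 2, 2, 3, 2, 1, 2, 3, 3, 1, 1, 3, 1, 1, 2, 3, 1, 2, 3],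
  #v[3, 2, 3, 1, 1, 2, 3, 2, 2, 2, 1, 3, 3, 1, 1, 2, 3, 2, 2, 1, 1, 3, 3, 2, 2, 2, 1, 3, 2, 3, 1, 2, 1, 3, 1, 3, 3, 1, 3, 2],
  #v[1, 1, 2, 3, 3, 1, 2, 1, 2, 2, 3, 2, 3, 2, 1, 2, 1, 1, 1, 1, 2, 3, 3, 3, 2, 3, 2, 2, 3, 1, 1, 3, 3, 1, 1, 1, 1, 1, 3, 2],
  #v[2, 3, 2, 1, 3, 1, 3, 2, 1, 2, 2, 3, 3, 3, 2, 1, 1, 2, 2, 3, 2, 1, 2, 3, 3, 3, 1, 2, 1, 2, 3, 1, 3, 1, 2, 3, 1, 2, 3, 1],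
  #v[3, 2, 2, 2, 1, 3, 1, 1, 2, 3, 2, 2, 3, 1, 1, 2, 1, 3, 3, 2, 2, 1, 3, 2, 3, 3, 1, 2, 1, 3, 2, 2, 1, 3, 3, 2, 1, 3, 3, 1],
  #v[3, 1, 1, 1, 2, 3, 1, 2, 3, 1, 2, 3, 2, 2, 2, 2, 2, 2, 2, 2, 2, 2, 3, 3, 3, 3, 3, 3, 3, 3, 3, 1, 1, 1, 1, 1, 1, 1, 1, 1],
  #v[1, 3, 1, 1, 1, 1, 1, 1, 1, 1, 1, 1, 2, 1, 1, 1, 1, 2, 1, 2, 1, 2, 1, 1, 1, 1, 3, 1, 3, 1, 3, 1, 1, 1, 1, 1, 1, 1, 1, 1],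
  #v[1, 1, 3, 1, 1, 1, 1, 1, 1, 1, 1, 1, 2, 1, 1, 1, 1, 1, 1, 1, 1, 1, 1, 1, 1, 1, 1, 1, 1, 1, 1, 1, 1, 1, 1, 1, 1, 1, 1, 1],
  #v[1, 1, 1, 3, 3, 2, 3, 3, 1, 2, 1, 2, 2, 3, 3, 1, 3, 2, 1, 1, 1, 1, 2, 1, 2, 2, 3, 1, 1, 1, 1, 1, 3, 2, 1, 1, 3, 2, 2, 3],
  #v[2, 3, 1, 2, 3, 3, 1, 3, 1, 3, 2, 1, 2, 1, 3, 1, 3, 1, 2, 3, 1, 2, 3, 2, 1, 2, 1, 1, 2, 2, 3, 2, 1, 3, 2, 3, 3, 1, 2, 1],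
  #v[3, 2, 1, 3, 2, 3, 2, 1, 3, 1, 1, 2, 2, 2, 1, 3, 3, 1, 3, 2, 1, 3, 1, 1, 2, 2, 1, 1, 3, 3, 2, 3, 2, 1, 3, 2, 3, 1, 2, 1],
  #v[1, 1, 3, 2, 1, 2, 3, 3, 2, 3, 3, 1, 2, 3, 3, 1, 1, 1, 3, 2, 1, 1, 2, 1, 2, 1, 1, 2, 3, 1, 1, 2, 3, 2, 2, 3, 1, 1, 3, 2],
  #v[2, 3, 3, 3, 2, 1, 2, 3, 3, 1, 3, 1, 2, 1, 3, 1, 1, 2, 3, 1, 2, 3, 3, 2, 1, 2, 3, 2, 1, 1, 2, 2, 2, 3, 2, 1, 2, 3, 3, 1],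
  #v[3, 2, 3, 1, 1, 2, 3, 2, 3, 2, 1, 3, 2, 2, 1, 3, 1, 3, 3, 1, 3, 2, 1, 1, 2, 3, 2, 2, 1, 1, 3, 3, 2, 2, 2, 1, 3, 2, 3, 1],
  #v[1, 1, 2, 3, 3, 1, 2, 1, 2, 3, 3, 2, 2, 3, 3, 1, 1, 1, 1, 1, 3, 2, 2, 1, 2, 1, 1, 1, 1, 2, 3, 3, 3, 2, 3, 2, 2, 3, 1, 1],
  #v[2, 3, 2, 1, 3, 1, 3, 2, 1, 2, 3, 3, 2, 1, 3, 1, 2, 3, 1, 2, 3, 1, 3, 2, 1, 1, 2, 2, 3, 2, 1, 2, 3, 3, 3, 1, 2, 1, 2, 3],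
  #v[3, 2, 2, 2, 1, 3, 1, 1, 2, 3, 2, 3, 2, 2, 1, 3, 3, 2, 1, 3, 3, 1, 1, 1, 2, 1, 3, 3, 2, 2, 1, 3, 2, 3, 3, 1, 2, 1, 3, 2]]

def mTable : Vector (Vector (Vector (ZMod 3) 4) 4) 45 := #v[
  #v[#v[0, 1, 0, 0], #v[1, 0, 0, 0], #v[0, 0, 0, 1], #v[0, 0, 1, 0]],
  #v[#v[0, 1, 0, 1], #v[1, 0, 2, 0], #v[0, 0, 0, 1], #v[0, 0, 1, 0]],
  #v[#v[0, 1, 0, 2], #v[1, 0, 1, 0], #v[0, 0, 0, 1], #v[0, 0, 1, 0]],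
  #v[#v[1, 0, 0, 0], #v[1, 2, 0, 0], #v[0, 0, 1, 1], #v[0, 0, 0, 2]],
  #v[#v[1, 2, 0, 0], #v[0, 2, 0, 0], #v[0, 0, 1, 0], #v[0, 0, 2, 2]],
  #v[#v[1, 0, 0, 1], #v[1, 2, 2, 0], #v[0, 0, 1, 1], #v[0, 0, 0, 2]],
  #v[#v[1, 2, 0, 1], #v[0, 2, 2, 0], #v[0, 0, 1, 0], #v[0, 0, 2, 2]],
  #v[#v[1, 0, 0, 2], #v[1, 2, 1, 0], #v[0, 0, 1, 1], #v[0, 0, 0, 2]],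
  #v[#v[1, 2, 0, 2], #v[0, 2, 1, 0], #v[0, 0, 1, 0], #v[0, 0, 2, 2]],
  #v[#v[1, 0, 0, 1], #v[2, 2, 2, 0], #v[0, 0, 1, 2], #v[0, 0, 0, 2]],
  #v[#v[1, 1, 0, 1], #v[0, 2, 2, 0], #v[0, 0, 1, 0], #v[0, 0, 1, 2]],
  #v[#v[1, 0, 0, 2], #v[0, 2, 1, 0], #v[0, 0, 1, 0], #v[0, 0, 0, 2]],
  #v[#v[1, 1, 0, 2], #v[2, 2, 1, 0], #v[0, 1, 1, 2], #v[2, 0, 1, 2]],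
  #v[#v[1, 1, 0, 0], #v[0, 2, 0, 0], #v[0, 1, 1, 0], #v[2, 0, 1, 2]],
  #v[#v[1, 1, 0, 1], #v[1, 2, 2, 0], #v[0, 1, 1, 1], #v[2, 0, 1, 2]],
  #v[#v[1, 0, 0, 0], #v[0, 2, 0, 0], #v[0, 2, 1, 0], #v[1, 0, 0, 2]],
  #v[#v[1, 0, 0, 0], #v[2, 2, 0, 0], #v[0, 2, 1, 2], #v[1, 0, 0, 2]],
  #v[#v[1, 0, 0, 0], #v[1, 2, 0, 0], #v[0, 2, 1, 1], #v[1, 0, 0, 2]],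
  #v[#v[0, 2, 0, 1], #v[1, 0, 2, 0], #v[0, 1, 0, 1], #v[2, 0, 2, 0]],
  #v[#v[0, 1, 0, 0], #v[1, 0, 0, 0], #v[0, 2, 0, 1], #v[1, 0, 1, 0]],
  #v[#v[0, 1, 0, 1], #v[0, 0, 2, 0], #v[0, 2, 0, 0], #v[1, 0, 1, 0]],
  #v[#v[1, 0, 0, 0], #v[2, 2, 0, 0], #v[0, 0, 1, 2], #v[0, 0, 0, 2]],
  #v[#v[1, 1, 0, 0], #v[0, 2, 0, 0], #v[0, 0, 1, 0], #v[0, 0, 1, 2]],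
  #v[#v[1, 0, 0, 0], #v[0, 2, 0, 0], #v[0, 0, 1, 0], #v[0, 0, 0, 2]],
  #v[#v[0, 0, 0, 1], #v[0, 0, 2, 0], #v[0, 2, 0, 0], #v[1, 0, 0, 0]],
  #v[#v[0, 0, 0, 2], #v[1, 0, 1, 0], #v[0, 1, 0, 1], #v[2, 0, 0, 0]],
  #v[#v[0, 0, 0, 1], #v[1, 0, 2, 0], #v[0, 2, 0, 1], #v[1, 0, 0, 0]],
  #v[#v[1, 2, 0, 2], #v[1, 2, 1, 0], #v[0, 1, 1, 1], #v[2, 0, 2, 2]],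
  #v[#v[1, 2, 0, 1], #v[2, 2, 2, 0], #v[0, 1, 1, 2], #v[2, 0, 2, 2]],
  #v[#v[1, 2, 0, 0], #v[0, 2, 0, 0], #v[0, 1, 1, 0], #v[2, 0, 2, 2]],
  #v[#v[1, 2, 0, 1], #v[1, 2, 2, 0], #v[0, 2, 1, 1], #v[1, 0, 2, 2]],
  #v[#v[1, 2, 0, 0], #v[0, 2, 0, 0], #v[0, 2, 1, 0], #v[1, 0, 2, 2]],
  #v[#v[1, 2, 0, 2], #v[2, 2, 1, 0], #v[0, 2, 1, 2], #v[1, 0, 2, 2]],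
  #v[#v[1, 0, 0, 2], #v[2, 2, 1, 0], #v[0, 0, 1, 2], #v[0, 0, 0, 2]],
  #v[#v[1, 1, 0, 2], #v[0, 2, 1, 0], #v[0, 0, 1, 0], #v[0, 0, 1, 2]],
  #v[#v[1, 0, 0, 1], #v[0, 2, 2, 0], #v[0, 0, 1, 0], #v[0, 0, 0, 2]],
  #v[#v[1, 1, 0, 1], #v[2, 2, 2, 0], #v[0, 2, 1, 2], #v[1, 0, 1, 2]],
  #v[#v[1, 1, 0, 2], #v[1, 2, 1, 0], #v[0, 2, 1, 1], #v[1, 0, 1, 2]],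
  #v[#v[1, 1, 0, 0], #v[0, 2, 0, 0], #v[0, 2, 1, 0], #v[1, 0, 1, 2]],
  #v[#v[0, 2, 0, 2], #v[1, 0, 1, 0], #v[0, 2, 0, 1], #v[1, 0, 2, 0]],
  #v[#v[0, 2, 0, 1], #v[0, 0, 2, 0], #v[0, 2, 0, 0], #v[1, 0, 2, 0]],
  #v[#v[0, 1, 0, 0], #v[1, 0, 0, 0], #v[0, 1, 0, 1], #v[2, 0, 1, 0]],
  #v[#v[1, 0, 0, 0], #v[0, 2, 0, 0], #v[0, 1, 1, 0], #v[2, 0, 0, 2]],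
  #v[#v[1, 0, 0, 0], #v[1, 2, 0, 0], #v[0, 1, 1, 1], #v[2, 0, 0, 2]],
  #v[#v[1, 0, 0, 0], #v[2, 2, 0, 0], #v[0, 1, 1, 2], #v[2, 0, 0, 2]]]

def rTable : Vector (Vector (ZMod 3) 40) 45 := #v[
  #v[1, 1, 1, 1, 1, 1, 1, 1, 2, 1, 2, 1, 2, 2, 1, 1, 2, 2, 1, 1, 1, 1, 2, 1, 1, 1, 1, 1, 1, 1, 1, 2, 1, 1, 2, 2, 1, 1, 1, 1],
  #v[1, 1, 1, 1, 1, 2, 2, 1, 1, 2, 1, 2, 2, 2, 2, 1, 2, 1, 1, 1, 2, 2, 2, 2, 2, 2, 1, 1, 1, 1, 2, 1, 2, 2, 2, 1, 1, 2, 1, 2],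
  #v[1, 1, 1, 2, 2, 1, 2, 2, 1, 2, 2, 1, 2, 1, 1, 2, 2, 1, 1, 2, 2, 2, 1, 2, 2, 1, 2, 1, 2, 1, 1, 2, 1, 2, 2, 1, 2, 1, 1, 1],
  #v[1, 2, 1, 2, 2, 2, 1, 1, 1, 1, 1, 1, 1, 1, 1, 1, 1, 1, 2, 1, 1, 2, 1, 2, 2, 1, 1, 1, 1, 1, 1, 1, 1, 1, 1, 1, 1, 2, 2, 1],
  #v[1, 2, 2, 1, 2, 2, 2, 1, 2, 2, 2, 1, 2, 2, 2, 1, 2, 2, 2, 1, 1, 2, 1, 2, 2, 1, 2, 2, 2, 2, 2, 2, 1, 2, 2, 2, 1, 2, 2, 1],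
  #v[1, 2, 1, 1, 2, 1, 2, 2, 2, 1, 1, 2, 1, 2, 2, 2, 1, 2, 1, 2, 1, 2, 2, 2, 1, 2, 1, 1, 2, 1, 2, 1, 1, 2, 1, 2, 1, 1, 2, 1],
  #v[1, 2, 2, 1, 1, 1, 1, 2, 1, 2, 1, 1, 2, 2, 1, 2, 2, 1, 2, 2, 1, 1, 2, 1, 2, 2, 1, 2, 2, 1, 1, 1, 2, 2, 2, 1, 1, 2, 2, 1],
  #v[1, 2, 1, 2, 1, 2, 1, 2, 2, 2, 2, 2, 1, 1, 2, 2, 1, 2, 1, 1, 1, 1, 1, 1, 2, 1, 2, 1, 2, 1, 1, 2, 2, 2, 1, 2, 1, 2, 1, 2],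
  #v[1, 2, 2, 2, 1, 1, 2, 1, 1, 1, 2, 2, 2, 1, 2, 2, 2, 1, 2, 2, 1, 2, 1, 1, 1, 1, 2, 1, 1, 1, 2, 2, 2, 1, 2, 1, 1, 1, 2, 2],
  #v[1, 2, 1, 1, 2, 1, 2, 2, 2, 2, 1, 1, 1, 2, 2, 2, 1, 1, 1, 2, 1, 2, 2, 2, 1, 2, 1, 1, 1, 1, 2, 2, 1, 2, 1, 2, 1, 1, 2, 2],
  #v[1, 1, 2, 1, 2, 2, 1, 2, 1, 1, 2, 1, 1, 1, 2, 2, 1, 2, 1, 2, 1, 2, 2, 1, 2, 2, 1, 2, 1, 2, 2, 2, 2, 1, 2, 1, 1, 2, 1, 1],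
  #v[1, 2, 1, 2, 1, 2, 1, 1, 2, 2, 2, 2, 1, 2, 1, 2, 1, 2, 1, 2, 1, 1, 1, 1, 2, 1, 2, 1, 2, 1, 2, 2, 2, 2, 1, 1, 1, 2, 1, 2],
  #v[1, 1, 2, 2, 2, 1, 1, 2, 2, 1, 1, 2, 2, 2, 1, 1, 1, 1, 1, 2, 1, 2, 1, 2, 1, 1, 2, 2, 1, 2, 1, 1, 2, 2, 2, 2, 1, 2, 1, 2],
  #v[1, 1, 2, 1, 1, 1, 2, 1, 1, 2, 1, 1, 1, 1, 2, 1, 1, 1, 1, 1, 1, 1, 1, 1, 1, 1, 2, 2, 2, 2, 2, 1, 1, 2, 1, 1, 1, 1, 1, 1],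
  #v[1, 1, 2, 1, 2, 2, 2, 2, 1, 1, 2, 2, 2, 1, 1, 2, 1, 2, 1, 2, 1, 2, 2, 1, 2, 2, 1, 2, 1, 2, 2, 2, 1, 1, 1, 1, 1, 2, 1, 1],
  #v[1, 2, 1, 1, 2, 2, 1, 1, 1, 1, 1, 1, 1, 1, 1, 1, 1, 1, 2, 1, 1, 2, 1, 2, 2, 1, 2, 1, 1, 1, 1, 1, 1, 1, 1, 1, 1, 2, 2, 1],
  #v[1, 2, 1, 2, 2, 2, 1, 1, 1, 1, 1, 1, 1, 1, 1, 1, 1, 1, 2, 1, 1, 2, 2, 2, 2, 1, 2, 1, 1, 1, 1, 1, 1, 1, 1, 1, 1, 2, 2, 1],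
  #v[1, 2, 1, 2, 2, 2, 1, 1, 1, 1, 1, 1, 1, 1, 1, 1, 1, 1, 2, 1, 1, 2, 1, 2, 2, 1, 1, 1, 1, 1, 1, 1, 1, 1, 1, 1, 1, 2, 2, 1],
  #v[1, 2, 2, 1, 1, 2, 2, 1, 2, 1, 2, 2, 1, 2, 2, 1, 1, 1, 2, 1, 2, 1, 2, 1, 1, 2, 1, 2, 1, 2, 1, 1, 2, 1, 1, 2, 1, 2, 2, 2],
  #v[1, 1, 1, 1, 1, 1, 1, 1, 2, 1, 2, 1, 2, 2, 1, 1, 2, 2, 1, 1, 1, 1, 2, 1, 1, 1, 1, 1, 1, 1, 1, 2, 1, 1, 2, 2, 1, 1, 1, 1],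
  #v[1, 1, 1, 1, 1, 2, 2, 1, 2, 1, 1, 2, 2, 1, 2, 1, 2, 1, 1, 1, 1, 2, 2, 2, 2, 2, 1, 1, 2, 1, 2, 1, 2, 2, 2, 1, 2, 2, 1, 2],
  #v[1, 2, 1, 2, 2, 2, 1, 1, 1, 1, 1, 1, 1, 1, 1, 1, 1, 1, 2, 1, 1, 2, 2, 2, 2, 1, 2, 1, 1, 1, 1, 1, 1, 1, 1, 1, 1, 2, 2, 1],
  #v[1, 1, 2, 1, 1, 1, 2, 1, 1, 2, 1, 1, 1, 1, 2, 1, 1, 1, 1, 1, 1, 1, 1, 1, 1, 1, 2, 2, 2, 2, 2, 1, 1, 2, 1, 1, 1, 1, 1, 1],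
  #v[1, 2, 1, 1, 2, 2, 1, 1, 1, 1, 1, 1, 1, 1, 1, 1, 1, 1, 2, 1, 1, 2, 1, 2, 2, 1, 2, 1, 1, 1, 1, 1, 1, 1, 1, 1, 1, 2, 2, 1],
  #v[1, 2, 2, 1, 2, 1, 1, 1, 1, 2, 2, 2, 1, 1, 1, 1, 2, 2, 2, 1, 1, 2, 2, 2, 1, 2, 1, 1, 2, 2, 1, 2, 2, 2, 1, 1, 2, 1, 1, 2],
  #v[1, 1, 1, 2, 1, 2, 2, 2, 2, 1, 1, 1, 1, 2, 2, 2, 2, 1, 1, 2, 2, 1, 1, 1, 2, 1, 2, 1, 1, 2, 2, 1, 1, 1, 2, 2, 2, 2, 2, 1],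
  #v[1, 2, 1, 1, 2, 1, 1, 1, 1, 2, 2, 2, 1, 1, 1, 1, 1, 2, 2, 1, 2, 2, 2, 2, 1, 2, 1, 2, 2, 2, 1, 2, 2, 2, 2, 1, 1, 1, 1, 2],
  #v[1, 2, 1, 2, 1, 1, 2, 2, 1, 1, 1, 2, 2, 1, 2, 2, 2, 2, 2, 1, 1, 2, 1, 1, 1, 1, 2, 2, 1, 1, 2, 2, 2, 1, 2, 1, 1, 1, 2, 2],
  #v[1, 2, 1, 1, 1, 1, 1, 2, 2, 2, 1, 1, 2, 1, 1, 2, 2, 1, 2, 2, 1, 1, 2, 1, 2, 2, 1, 2, 2, 2, 1, 1, 1, 2, 2, 1, 1, 2, 2, 2],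
  #v[1, 2, 2, 1, 2, 2, 2, 1, 2, 2, 2, 1, 2, 2, 2, 1, 2, 2, 2, 1, 1, 2, 1, 2, 2, 1, 2, 2, 2, 2, 2, 2, 1, 2, 2, 2, 1, 2, 2, 1],
  #v[1, 2, 2, 1, 1, 1, 1, 2, 1, 2, 1, 2, 2, 1, 1, 2, 2, 1, 2, 2, 1, 1, 2, 1, 2, 2, 1, 1, 2, 2, 1, 1, 1, 2, 2, 2, 1, 2, 2, 1],
  #v[1, 2, 2, 1, 2, 2, 2, 1, 2, 2, 2, 1, 2, 2, 2, 1, 2, 2, 2, 1, 1, 2, 1, 2, 2, 1, 2, 2, 2, 2, 2, 2, 1, 2, 2, 2, 1, 2, 2, 1],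
  #v[1, 2, 1, 2, 1, 1, 2, 2, 1, 1, 2, 2, 2, 1, 2, 1, 2, 2, 2, 2, 1, 2, 1, 1, 1, 1, 2, 1, 1, 2, 2, 1, 2, 1, 2, 1, 1, 1, 2, 2],
  #v[1, 2, 1, 2, 1, 2, 2, 2, 1, 2, 2, 2, 1, 2, 1, 1, 1, 2, 1, 2, 1, 1, 1, 1, 2, 1, 2, 1, 2, 1, 1, 2, 2, 2, 1, 2, 1, 2, 1, 2],
  #v[1, 1, 2, 2, 2, 1, 1, 1, 2, 1, 1, 2, 1, 2, 1, 2, 2, 1, 1, 2, 1, 2, 1, 2, 1, 1, 2, 2, 2, 2, 1, 1, 2, 1, 2, 2, 1, 2, 1, 2],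
  #v[1, 2, 1, 1, 2, 1, 2, 2, 2, 2, 2, 1, 1, 2, 2, 2, 1, 1, 1, 2, 1, 2, 2, 2, 1, 2, 1, 1, 2, 1, 2, 1, 2, 1, 1, 2, 1, 1, 2, 1],
  #v[1, 1, 2, 1, 2, 2, 2, 2, 1, 1, 2, 1, 1, 1, 2, 2, 2, 2, 1, 2, 1, 2, 2, 1, 2, 2, 1, 2, 1, 2, 1, 2, 1, 1, 1, 1, 1, 2, 1, 2],
  #v[1, 1, 2, 2, 2, 1, 1, 2, 2, 2, 1, 2, 2, 2, 1, 2, 2, 1, 1, 1, 1, 2, 1, 2, 1, 1, 2, 2, 1, 2, 1, 1, 2, 1, 1, 2, 1, 2, 1, 2],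
  #v[1, 1, 2, 1, 1, 1, 2, 1, 1, 2, 1, 1, 1, 1, 2, 1, 1, 1, 1, 1, 1, 1, 1, 1, 1, 1, 2, 2, 2, 2, 2, 1, 1, 2, 1, 1, 1, 1, 1, 1],
  #v[1, 2, 2, 2, 2, 1, 1, 2, 2, 1, 2, 1, 1, 2, 1, 2, 1, 2, 2, 2, 2, 1, 1, 1, 1, 1, 2, 2, 1, 2, 1, 2, 1, 2, 1, 1, 2, 1, 2, 1],
  #v[1, 2, 2, 1, 1, 2, 2, 1, 2, 1, 1, 2, 1, 2, 1, 1, 1, 1, 2, 1, 1, 1, 2, 1, 1, 2, 1, 2, 1, 2, 2, 2, 2, 1, 1, 2, 2, 2, 2, 2],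
  #v[1, 1, 1, 1, 1, 1, 1, 1, 2, 1, 2, 1, 2, 2, 1, 1, 2, 2, 1, 1, 1, 1, 2, 1, 1, 1, 1, 1, 1, 1, 1, 2, 1, 1, 2, 2, 1, 1, 1, 1],
  #v[1, 2, 1, 1, 2, 2, 1, 1, 1, 1, 1, 1, 1, 1, 1, 1, 1, 1, 2, 1, 1, 2, 1, 2, 2, 1, 2, 1, 1, 1, 1, 1, 1, 1, 1, 1, 1, 2, 2, 1],
  #v[1, 2, 1, 2, 2, 2, 1, 1, 1, 1, 1, 1, 1, 1, 1, 1, 1, 1, 2, 1, 1, 2, 1, 2, 2, 1, 1, 1, 1, 1, 1, 1, 1, 1, 1, 1, 1, 2, 2, 1],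
  #v[1, 2, 1, 2, 2, 2, 1, 1, 1, 1, 1, 1, 1, 1, 1, 1, 1, 1, 2, 1, 1, 2, 2, 2, 2, 1, 2, 1, 1, 1, 1, 1, 1, 1, 1, 1, 1, 2, 2, 1]]

/-- The element of `K4` with the given code. -/
def decK (n : ℕ) : K4 := ⟨((n % 2 : ℕ) : ZMod 2), ((n / 2 % 2 : ℕ) : ZMod 2)⟩

/-- The vector with the given code. -/
def vec4 (n : ℕ) : Fin 4 → K4 := fun i => decK (n / 4 ^ (i : ℕ) % 4)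

/-- The position of a symplectic coordinate. -/
def sIdx : Fin 2 ⊕ Fin 2 → Fin 4 := Sum.elim ![0, 1] ![2, 3]

/-- The symplectic vector with the given code. -/
def vec3 (n : ℕ) : Fin 2 ⊕ Fin 2 → ZMod 3 := fun i => ((n / 3 ^ (sIdx i : ℕ) % 3 : ℕ) : ZMod 3)

/-- The forty non-isotropic points. -/
def uVec (i : Fin 40) : Fin 4 → K4 := vec4 uTable[(i : ℕ)]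

/-- The forty symplectic points. -/
def wVec (i : Fin 40) : Fin 2 ⊕ Fin 2 → ZMod 3 := vec3 wTable[(i : ℕ)]

/-- The matrix of a transvection over `K4`. -/
def tMat (v : Fin 4 → K4) : Matrix (Fin 4) (Fin 4) K4 := fun i j =>
  (if i = j then 1 else 0) + v i * (v j * v j)

/-- The forty-five transvections. -/
def uMat (k : Fin 45) : Matrix (Fin 4) (Fin 4) K4 := tMat (vec4 tTable[(k : ℕ)])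

/-- Their symplectic partners. -/
def sMat (k : Fin 45) : Matrix (Fin 2 ⊕ Fin 2) (Fin 2 ⊕ Fin 2) (ZMod 3) := fun i j =>
  (mTable[(k : ℕ)][(sIdx i : ℕ)])[(sIdx j : ℕ)]

/-- The permutation of the forty points. -/
def pFun (k : Fin 45) (i : Fin 40) : Fin 40 := permTable[(k : ℕ)][(i : ℕ)]

theorem pFun_injective : ∀ k i j, pFun k i = pFun k j → i = j := by decide +kernel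

theorem sMat_mem : ∀ k, sMat k * Matrix.J (Fin 2) (ZMod 3) * (sMat k)ᵀ =
    Matrix.J (Fin 2) (ZMod 3) := by decide +kernel

theorem uMat_mulVec : ∀ k i j, (uMat k *ᵥ uVec i) j =
    decK (sTable[(k : ℕ)][(i : ℕ)] : ℕ) * uVec (pFun k i) j := by decide +kernel

theorem sMat_mulVec : ∀ k i j, (sMat k *ᵥ wVec i) j =
    rTable[(k : ℕ)][(i : ℕ)] * wVec (pFun k i) j := by decide +kernel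

theorem decK_surjective : ∀ a0 a1 : ZMod 2, ∃ n : Fin 4, decK n = ⟨a0, a1⟩ := by decide +kernel

theorem tMat_cover : ∀ n : Fin 256, (∑ i, vec4 n i * (vec4 n i * vec4 n i)) = 0 →
    tMat (vec4 n) = 1 ∨ tMat (vec4 n) = uMat idxTable[(n : ℕ)] := by decide +kernel

theorem uVec_distinct : ∀ i j : Fin 40, (∃ n : Fin 4, ∀ k, uVec i k = decK n * uVec j k) → i = j := by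
  decide +kernel

theorem wVec_distinct : ∀ i j : Fin 40, (∃ s : ZMod 3, ∀ k, wVec i k = s * wVec j k) → i = j := by
  decide +kernel

theorem uVec_cover : ∀ i j : Fin 4, i ≠ j → ∀ l : Fin 4, l ≠ i → l ≠ j →
    ∃ a : Fin 40, ∀ k, uVec a k = if k = i ∨ k = j ∨ k = l then 1 else 0 := by decide +kernel

theorem uVec_single : ∀ i : Fin 4, ∃ a : Fin 40, ∀ k, uVec a k = if k = i then 1 else 0 := by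
  decide +kernel

theorem wVec_cover : ∀ n : Fin 81, ∃ a : Fin 40, ∃ s : ZMod 3, ∀ k, vec3 n k = s * wVec a k := by
  decide +kernel

theorem vec3_surjective : ∀ a b c d : ZMod 3, ∃ n : Fin 81,
    vec3 n (Sum.inl 0) = a ∧ vec3 n (Sum.inl 1) = b ∧ vec3 n (Sum.inr 0) = c ∧ vec3 n (Sum.inr 1) = d := by
  decide +kernel

end CfsgLib.Linear.Forty
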