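import Cfsg.Agent.Classical.FortyPoints.Data
import Cfsg.Agent.Unitary.Generated
import Cfsg.Agent.Unitary.Special
import Cfsg.Agent.Classical.SymplecticBlocks
import Cfsg.Agent.Classical.SymplecticBasic
import Cfsg.Agent.S0280

/-!
`PSU₄(2) ≅ PSp₄(3)` through the forty points.
-/

set_option autoImplicit false
set_option linter.style.haveILetI false

namespace CfsgLib.Linear.Forty

open CfsgLib.Linear.ThreeFour CfsgLib.Unitary Matrix

theorem K4_isUnit : ∀ a0 a1 : ZMod 2, a0 = 0 ∧ a1 = 0 ∨ ∃ b0 b1 : ZMod 2,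
    (⟨a0, a1⟩ : K4) * ⟨b0, b1⟩ = 1 := by decide +kernel

theorem model_injective {F : Type*} [Field F] (φ : K4 →+* F) : Function.Injective φ := by
  rw [injective_iff_map_eq_zero]
  rintro ⟨a0, a1⟩ h
  rcases K4_isUnit a0 a1 with ⟨rfl, rfl⟩ | ⟨b0, b1, hb⟩
  · rfl
  · have := congrArg φ hb
    rw [map_mul, h, zero_mul, map_one] at this
    exact absurd this zero_ne_one

section

variable {F K : Type*} [Field F] [Field K] (φ : K4 →+* F) (ψ : ZMod 3 →+* K)

/-- A non-isotropic point over `F`. -/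
def uF (i : Fin 40) : Fin 4 → F := φ ∘ uVec i

/-- A symplectic point over `K`. -/
def wF (i : Fin 40) : Fin 2 ⊕ Fin 2 → K := ψ ∘ wVec i

theorem uF_distinct (hφ : Function.Surjective φ) {i j : Fin 40} {s : F} (h : uF φ i = s • uF φ j) :
    i = j := by
  obtain ⟨⟨a0, a1⟩, rfl⟩ := hφ s
  obtain ⟨n, hn⟩ := decK_surjective a0 a1
  refine uVec_distinct i j ⟨n, fun k => (model_injective φ) ?_⟩
  rw [hn, map_mul]
  exact congrFun h k

theorem wF_distinct (hψ : Function.Surjective ψ) {i j : Fin 40} {s : K} (h : wF ψ i = s • wF ψ j) :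
    i = j := by
  obtain ⟨t, rfl⟩ := hψ s
  refine wVec_distinct i j ⟨t, fun k => ψ.injective ?_⟩
  rw [map_mul]
  exact congrFun h k

/-- A matrix permutes the given points projectively. -/
def Acts {R ι ν : Type*} [Field R] [Fintype ν] (M : Matrix ν ν R) (v : ι → ν → R) (π : Equiv.Perm ι) :
    Prop := ∀ i, ∃ s : R, M *ᵥ v i = s • v (π i)

theorem Acts.one {R ι ν : Type*} [Field R] [Fintype ν] [DecidableEq ν] (v : ι → ν → R) :
    Acts (1 : Matrix ν ν R) v 1 := fun i => ⟨1, by rw [one_mulVec, one_smul]; rfl⟩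

theorem Acts.mul {R ι ν : Type*} [Field R] [Fintype ν] {M N : Matrix ν ν R} {v : ι → ν → R}
    {π σ : Equiv.Perm ι} (hM : Acts M v π) (hN : Acts N v σ) : Acts (M * N) v (π * σ) := fun i => by
  obtain ⟨s, hs⟩ := hN i
  obtain ⟨t, ht⟩ := hM (σ i)
  exact ⟨s * t, by rw [← mulVec_mulVec, hs, mulVec_smul, ht, smul_smul]; rfl⟩

theorem Acts.inv {R ι ν : Type*} [Field R] [Fintype ν] [DecidableEq ν] {M N : Matrix ν ν R}
    {v : ι → ν → R} (hNM : N * M = 1) (hv : ∀ i, v i ≠ 0) {π : Equiv.Perm ι} (hM : Acts M v π) :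
    Acts N v π⁻¹ := fun i => by
  obtain ⟨s, hs⟩ := hM (π⁻¹ i)
  rw [show π (π⁻¹ i) = i from π.apply_symm_apply i] at hs
  have h := congrArg (fun x => N *ᵥ x) hs
  simp only [mulVec_mulVec, hNM, one_mulVec, mulVec_smul] at h
  have hs0 : s ≠ 0 := fun e => hv _ (by rw [h, e, zero_smul])
  exact ⟨s⁻¹, by rw [h, smul_smul, inv_mul_cancel₀ hs0, one_smul]⟩

theorem uF_ne_zero (hφ : Function.Surjective φ) (i : Fin 40) : uF φ i ≠ 0 := fun e => by
  rcases eq_or_ne i 0 with rfl | hi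
  · exact absurd (uF_distinct φ hφ (i := 0) (j := 1) (s := 0) (by rw [e, zero_smul])) (by decide)
  · exact hi (uF_distinct φ hφ (i := i) (j := 0) (s := 0) (by rw [e, zero_smul]))

theorem wF_ne_zero (hψ : Function.Surjective ψ) (i : Fin 40) : wF ψ i ≠ 0 := fun e => by
  rcases eq_or_ne i 0 with rfl | hi
  · exact absurd (wF_distinct ψ hψ (i := 0) (j := 1) (s := 0) (by rw [e, zero_smul])) (by decide)
  · exact hi (wF_distinct ψ hψ (i := i) (j := 0) (s := 0) (by rw [e, zero_smul]))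

/-- A unitary matrix fixing the forty points is scalar. -/
theorem scalar_of_acts_one_u {M : Matrix (Fin 4) (Fin 4) F} (h : Acts M (uF φ) 1) :
    ∃ c : F, M = c • 1 := by
  have hsum : ∀ S : Finset (Fin 4), (∃ a : Fin 40, ∀ k, uVec a k = if k ∈ S then 1 else 0) →
      ∃ s : F, ∀ r, ∑ k ∈ S, M r k = if r ∈ S then s else 0 := by
    rintro S ⟨a, ha⟩
    obtain ⟨s, hs⟩ := h a
    refine ⟨s, fun r => ?_⟩
    have h1 := congrFun hs r
    simp only [Equiv.Perm.coe_one, id_eq, mulVec, dotProduct, uF, Pi.smul_apply, smul_eq_mul,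
      Function.comp_apply, ha, apply_ite φ, map_one, map_zero, mul_ite, mul_one, mul_zero,
      Finset.sum_ite_mem, Finset.univ_inter] at h1
    exact h1
  have hd : ∀ i r, r ≠ i → M r i = 0 := by
    intro i r hr
    obtain ⟨a, ha⟩ := uVec_single i
    obtain ⟨s, hs⟩ := hsum {i} ⟨a, fun k => by rw [ha]; simp⟩
    simpa [hr] using hs r
  refine ⟨M 0 0, ?_⟩
  have hii : ∀ i, M i i = M 0 0 := by
    intro i
    rcases eq_or_ne i 0 with rfl | hi
    · rfl
    obtain ⟨l, hl1, hl2⟩ : ∃ l : Fin 4, l ≠ i ∧ l ≠ 0 := (show ∀ i : Fin 4, ∃ l, l ≠ i ∧ l ≠ 0 by decide) i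
    obtain ⟨a, ha⟩ := uVec_cover i 0 hi l hl1 hl2
    obtain ⟨s, hs⟩ := hsum {i, 0, l} ⟨a, fun k => by rw [ha]; simp⟩
    have hrow : ∀ r ∈ ({i, 0, l} : Finset (Fin 4)), M r r = s := fun r hr => by
      have := hs r
      rw [if_pos hr, Finset.sum_eq_single r (fun k _ hk => hd k r (Ne.symm hk)) (fun h => absurd hr h)] at this
      exact this
    rw [hrow i (by simp), hrow 0 (by simp)]
  ext r i
  rcases eq_or_ne r i with rfl | hr
  · simp [hii]
  · simp [hd i r hr, hr]

/-- A symplectic matrix fixing the forty points commutes with everything. -/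
theorem central_of_acts_one_w (hψ : Function.Surjective ψ) {M : Matrix (Fin 2 ⊕ Fin 2) (Fin 2 ⊕ Fin 2) K}
    (h : Acts M (wF ψ) 1) : ∀ N : Matrix (Fin 2 ⊕ Fin 2) (Fin 2 ⊕ Fin 2) K, N * M = M * N := by
  have heig : ∀ x : Fin 2 ⊕ Fin 2 → K, ∃ s : K, M *ᵥ x = s • x := by
    intro x
    obtain ⟨a, ha⟩ := hψ (x (Sum.inl 0))
    obtain ⟨b, hb⟩ := hψ (x (Sum.inl 1))
    obtain ⟨c, hc⟩ := hψ (x (Sum.inr 0))
    obtain ⟨d, hd⟩ := hψ (x (Sum.inr 1))
    obtain ⟨n, hn⟩ := vec3_surjective a b c d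
    obtain ⟨i, t, ht⟩ := wVec_cover n
    have hx : x = ψ t • wF ψ i := by
      funext k
      simp only [Pi.smul_apply, smul_eq_mul, wF, Function.comp_apply, ← map_mul, ← ht]
      obtain ⟨h1, h2, h3, h4⟩ := hn
      rcases k with k | k <;> fin_cases k
      · simp [h1, ha]
      · simp [h2, hb]
      · simp [h3, hc]
      · simp [h4, hd]
    obtain ⟨s, hs⟩ := h i
    refine ⟨s, ?_⟩
    rw [hx, mulVec_smul, hs, smul_comm]
    rfl
  have hoff : ∀ i r, r ≠ i → M r i = 0 := by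
    intro i r hr
    obtain ⟨s, hs⟩ := heig (Pi.single i 1)
    have := congrFun hs r
    simpa [Pi.single_eq_of_ne hr] using this
  have hdiag : ∀ i r, M r r = M i i := by
    intro i r
    rcases eq_or_ne r i with rfl | hr
    · rfl
    obtain ⟨s, hs⟩ := heig (Pi.single i 1 + Pi.single r 1)
    have h1 := congrFun hs r
    have h2 := congrFun hs i
    simp [mulVec_add, hoff i r hr, hoff r i hr.symm, hr, hr.symm] at h1 h2
    rw [h1, h2]
  intro N
  have hM : M = M (Sum.inl 0) (Sum.inl 0) • 1 := by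
    ext r i
    rcases eq_or_ne r i with rfl | hr
    · simp [hdiag (Sum.inl 0) r]
    · simp [hoff i r hr, hr]
  rw [hM, mul_smul_comm, smul_mul_assoc, mul_one, one_mul]

/-- The permutation of a transvection. -/
noncomputable def perm (k : Fin 45) : Equiv.Perm (Fin 40) :=
  Equiv.ofBijective (pFun k) (Finite.injective_iff_bijective.1 (pFun_injective k))

/-- Pairs acting alike on the forty points. -/
def pairs (hφ : Function.Surjective φ) (hψ : Function.Surjective ψ) :
    Subgroup (Cfsg.SU 4 F 2 × Matrix.symplecticGroup (Fin 2) K) where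
  carrier := {p | ∃ π : Equiv.Perm (Fin 40), Acts (suMat p.1) (uF φ) π ∧
    Acts (p.2 : Matrix (Fin 2 ⊕ Fin 2) (Fin 2 ⊕ Fin 2) K) (wF ψ) π}
  one_mem' := ⟨1, Acts.one _, Acts.one _⟩
  mul_mem' := by
    rintro p q ⟨π, h1, h2⟩ ⟨σ, h3, h4⟩
    exact ⟨π * σ, h1.mul h3, h2.mul h4⟩
  inv_mem' := by
    rintro p ⟨π, h1, h2⟩
    refine ⟨π⁻¹, h1.inv ?_ (uF_ne_zero φ hφ), h2.inv ?_ (wF_ne_zero ψ hψ)⟩
    · rw [← suMat_mul]
      exact congrArg suMat (inv_mul_cancel p.1)
    · rw [← Submonoid.coe_mul]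
      exact congrArg Subtype.val (inv_mul_cancel p.2)

theorem exists_pair [Finite F] (hF : Nat.card F = 4) (hφ : Function.Surjective φ)
    (hψ : Function.Surjective ψ) (A : Cfsg.SU 4 F 2) :
    ∃ g, (A, g) ∈ pairs φ ψ hφ hψ := by
  suffices h : tvGroup 4 F 2 ≤ (pairs φ ψ hφ hψ).map (MonoidHom.fst _ _) by
    rw [tvGroup_eq_top (F := F) (q := 2) (by rw [hF]; rfl) (by omega) (by omega)] at h
    obtain ⟨⟨A', g⟩, hg, rfl⟩ := h (Subgroup.mem_top A)
    exact ⟨g, hg⟩
  rw [tvGroup, Subgroup.closure_le]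
  rintro A ⟨v, c, hv, hA⟩
  by_cases hA1 : A = 1
  · subst hA1
    exact ⟨1, one_mem _, rfl⟩
  have hexp : ∀ x : Fin 4 → F, suMat A *ᵥ x = x + (c * Cfsg.hermForm 4 F 2 x v) • v := by
    intro x
    rw [hA, Cfsg.unitaryTransvection, add_mulVec, one_mulVec, smul_mulVec]
    congr 1
    funext i
    simp only [Pi.smul_apply, smul_eq_mul, mulVec, dotProduct, vecMulVec_apply, Cfsg.hermForm,
      Finset.sum_mul, Finset.mul_sum]
    exact Finset.sum_congr rfl fun j _ => by ring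
  have hv0 : v ≠ 0 := fun e => hA1 (su_ext fun x => by rw [hexp, e, suMat_one, one_mulVec]; simp)
  obtain ⟨l, hl⟩ := Function.ne_iff.1 hv0
  have hq : Nat.card F = 2 ^ 2 := hF
  have hx : Cfsg.hermForm 4 F 2 (Pi.single l 1) v = v l ^ 2 := by
    rw [Cfsg.hermForm, Finset.sum_eq_single l]
    · simp
    · intro b _ hb; simp [hb]
    · simp
  have hc2 : c + c ^ 2 = 0 := by
    have h1 := su_preserves A (Pi.single l 1) (Pi.single l 1)
    rw [hexp] at h1
    have h2 : Cfsg.hermForm 4 F 2 v (Pi.single l 1) = v l := by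
      rw [Cfsg.hermForm, Finset.sum_eq_single l]
      · simp
      · intro b _ hb; simp [hb]
      · simp
    have h3 : ∀ (a : F) (x : Fin 4 → F), Cfsg.hermForm 4 F 2 (x + a • v) (x + a • v) =
        Cfsg.hermForm 4 F 2 x x + a ^ 2 * Cfsg.hermForm 4 F 2 x v + a * Cfsg.hermForm 4 F 2 v x +
          a ^ 3 * Cfsg.hermForm 4 F 2 v v := by
      intro a x
      have h2' : (2 : F) = 0 := by
        haveI := Fintype.ofFinite F
        exact two_eq_zero (by rw [← Nat.card_eq_fintype_card, hF])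
      simp only [Cfsg.hermForm, Finset.mul_sum, ← Finset.sum_add_distrib]
      refine Finset.sum_congr rfl fun i _ => ?_
      simp only [Pi.add_apply, Pi.smul_apply, smul_eq_mul]
      linear_combination (x i ^ 2 * a * v i + x i * a ^ 2 * v i ^ 2) * h2'
    rw [h3, hx, h2, hv, mul_zero, add_zero, add_assoc, add_eq_left] at h1
    have h4 : (c + c ^ 2) * v l ^ 3 = 0 := by
      have : v l ^ 4 = v l := by
        haveI := Fintype.ofFinite F
        have := FiniteField.pow_card (v l)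
        rwa [← Nat.card_eq_fintype_card, hF] at this
      linear_combination h1 - c ^ 2 * v l ^ 2 * this
    exact (mul_eq_zero.1 h4).resolve_right (pow_ne_zero _ hl)
  have hc : c = 1 := by
    have hc0 : c ≠ 0 := fun e => hA1 (su_ext fun x => by rw [hexp, e, suMat_one, one_mulVec]; simp)
    have h2' : (2 : F) = 0 := by
      haveI := Fintype.ofFinite F
      exact two_eq_zero (by rw [← Nat.card_eq_fintype_card, hF])
    have : c * (c - 1) = 0 := by linear_combination hc2 - c * h2'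
    exact sub_eq_zero.1 ((mul_eq_zero.1 this).resolve_left hc0)
  obtain ⟨n, hn⟩ : ∃ n : Fin 256, ∀ i, φ (vec4 n i) = v i := by
    have hcode : ∀ i, ∃ m : Fin 4, φ (decK m) = v i := fun i => by
      obtain ⟨⟨a0, a1⟩, ha⟩ := hφ (v i)
      obtain ⟨m, hm⟩ := decK_surjective a0 a1
      exact ⟨m, by rw [hm, ha]⟩
    choose m hm using hcode
    refine ⟨⟨m 0 + 4 * m 1 + 16 * m 2 + 64 * m 3, by omega⟩, fun i => ?_⟩
    rw [← hm i]
    unfold vec4
    congr 2
    fin_cases i <;> simp <;> omega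
  have hmat : suMat A = (tMat (vec4 n)).map φ := by
    rw [hA]
    ext i j
    simp only [Cfsg.unitaryTransvection, Matrix.add_apply, Matrix.smul_apply, smul_eq_mul, hc, one_mul,
      vecMulVec_apply, Matrix.map_apply, tMat, map_add, map_mul, hn, Matrix.one_apply, apply_ite φ,
      map_one, map_zero, pow_two]
  have hiso : ∑ i, vec4 n i * (vec4 n i * vec4 n i) = 0 := by
    apply (model_injective φ)
    rw [map_zero, map_sum, ← hv, Cfsg.hermForm]
    exact Finset.sum_congr rfl fun i _ => by rw [map_mul, map_mul, hn, pow_two]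
  rcases tMat_cover n hiso with h | h
  · exfalso
    refine hA1 (su_ext fun x => ?_)
    rw [hmat, h, suMat_one, Matrix.map_one φ (map_zero φ) (map_one φ)]
  · generalize hk : idxTable[(n : ℕ)] = k at h
    have hg : ((sMat k).map ψ) ∈ Matrix.symplecticGroup (Fin 2) K := by
      rw [SymplecticGroup.mem_iff]
      have hJ : (Matrix.J (Fin 2) (ZMod 3)).map ψ = Matrix.J (Fin 2) K := by
        ext (i | i) (j | j) <;> simp [Matrix.J, Matrix.one_apply, apply_ite ψ]
      rw [← hJ, ← Matrix.map_mul, ← Matrix.transpose_map, ← Matrix.map_mul, sMat_mem]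
    refine ⟨(A, ⟨_, hg⟩), ⟨perm k, fun i => ⟨φ (decK (sTable[(k : ℕ)][(i : ℕ)] : ℕ)), ?_⟩,
      fun i => ⟨ψ (rTable[(k : ℕ)][(i : ℕ)]), ?_⟩⟩, rfl⟩
    · funext j
      rw [hmat, h]
      show ((uMat k).map φ *ᵥ (φ ∘ uVec i)) j = φ _ * φ (uVec (pFun k i) j)
      rw [← map_mul, ← uMat_mulVec]
      exact (RingHom.map_mulVec φ (uMat k) (uVec i) j).symm
    · funext j
      show ((sMat k).map ψ *ᵥ (ψ ∘ wVec i)) j = ψ _ * ψ (wVec (pFun k i) j)
      rw [← map_mul, ← sMat_mulVec]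
      exact (RingHom.map_mulVec ψ (sMat k) (wVec i) j).symm

end

theorem nonempty_iso {F K : Type*} [Field F] [Fintype F] [Field K] [Fintype K] (hF : Fintype.card F = 4)
    (hK : Fintype.card K = 3) : Nonempty (Cfsg.PSU 4 F 2 ≃* Cfsg.PSp 2 K) := by
  classical
  obtain ⟨φ, hφ⟩ := exists_model hF
  haveI : Fact (Nat.Prime 3) := ⟨Nat.prime_three⟩
  haveI : CharP K 3 := charP_of_card_eq_prime hK
  let ψ : ZMod 3 →+* K := ZMod.castHom dvd_rfl K
  have hψ : Function.Surjective ψ :=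
    ((Fintype.bijective_iff_injective_and_card ψ).2 ⟨ψ.injective, by rw [ZMod.card, hK]⟩).2
  rw [← Nat.card_eq_fintype_card] at hF
  have hK' : Nat.card K = 3 := by rw [Nat.card_eq_fintype_card, hK]
  let R := pairs φ ψ hφ hψ
  let p1 : R →* Cfsg.SU 4 F 2 := (MonoidHom.fst _ _).comp R.subtype
  have hp1 : Function.Surjective p1 := fun A => by
    obtain ⟨g, hg⟩ := exists_pair φ ψ hF hφ hψ A
    exact ⟨⟨(A, g), hg⟩, rfl⟩
  let p2 : R →* Cfsg.PSp 2 K := (QuotientGroup.mk' _).comp ((MonoidHom.snd _ _).comp R.subtype)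
  have hker : p1.ker ≤ p2.ker := by
    rintro ⟨⟨A, g⟩, π, hA, hg⟩ h1
    obtain rfl : A = 1 := h1
    have hπ : π = 1 := Equiv.ext fun i => by
      obtain ⟨s, hs⟩ := hA i
      rw [suMat_one, one_mulVec] at hs
      exact (uF_distinct φ hφ hs).symm
    rw [hπ] at hg
    show (QuotientGroup.mk g : Cfsg.PSp 2 K) = 1
    rw [QuotientGroup.eq_one_iff, Subgroup.mem_center_iff]
    exact fun N => Subtype.ext (central_of_acts_one_w ψ hψ hg N)
  let f : Cfsg.SU 4 F 2 →* Cfsg.PSp 2 K := p1.liftOfSurjective hp1 ⟨p2, hker⟩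
  have hf : ∀ x : R, f (p1 x) = p2 x := fun x => p1.liftOfRightInverse_comp_apply _ _ ⟨p2, hker⟩ x
  have hcu : Nat.card (Subgroup.center (Cfsg.SU 4 F 2)) = 1 := by
    rw [card_center_SU (F := F) (q := 2) hF (by omega)]
    decide
  have hfinj : Function.Injective f := by
    rw [injective_iff_map_eq_one]
    intro A hA
    obtain ⟨⟨⟨A', g⟩, π, hA', hg⟩, rfl⟩ := hp1 A
    rw [hf] at hA
    change (QuotientGroup.mk g : Cfsg.PSp 2 K) = 1 at hA
    rw [QuotientGroup.eq_one_iff, CfsgLib.Symp.mem_center_iff] at hA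
    have hπ : π = 1 := Equiv.ext fun i => by
      obtain ⟨s, hs⟩ := hg i
      rcases hA with e | e <;> rw [e] at hs
      · rw [one_mulVec] at hs
        exact (wF_distinct ψ hψ hs).symm
      · rw [neg_mulVec, one_mulVec, neg_eq_iff_eq_neg, ← neg_smul] at hs
        exact (wF_distinct ψ hψ hs).symm
    rw [hπ] at hA'
    obtain ⟨c, hc⟩ := scalar_of_acts_one_u φ hA'
    have hm : A' ∈ Subgroup.center (Cfsg.SU 4 F 2) :=
      (mem_center_SU_iff (F := F) (q := 2) hF (by omega)).2 ⟨c, hc⟩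
    rw [Subgroup.eq_bot_of_card_eq _ hcu, Subgroup.mem_bot] at hm
    exact hm
  have hcardP : Nat.card (Cfsg.PSp 2 K) = 25920 := by
    have h1 := CfsgLib.Symp.card_Sp (F := K) 2
    rw [Subgroup.card_eq_card_quotient_mul_card_subgroup (Subgroup.center (Matrix.symplecticGroup (Fin 2) K)),
      CfsgLib.Symp.card_center, hK', Finset.prod_range_succ, Finset.prod_range_one] at h1
    norm_num [-Nat.card_eq_fintype_card] at h1
    unfold Cfsg.PSp
    omega
  have hcardU : Nat.card (Cfsg.PSU 4 F 2) = 25920 := by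
    have h1 := Cfsg.Agent.S0280.result (F := F) (q := 2) (by rw [← Nat.card_eq_fintype_card]; exact hF) 4 (by omega)
    simp [Finset.prod_range_succ, Nat.even_iff, -Nat.card_eq_fintype_card] at h1
    omega
  have hbot := Subgroup.eq_bot_of_card_eq _ hcu
  have hsu : Nat.card (Cfsg.SU 4 F 2) = 25920 := by
    rw [Subgroup.card_eq_card_quotient_mul_card_subgroup (Subgroup.center (Cfsg.SU 4 F 2)), hcardU, hcu]
  haveI : Finite (Cfsg.PSp 2 K) := Nat.finite_of_card_ne_zero (by omega)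
  have hbij := (Nat.bijective_iff_injective_and_card f).2 ⟨hfinj, by rw [hsu, hcardP]⟩
  exact ⟨(QuotientGroup.quotientMulEquivOfEq hbot).trans (QuotientGroup.quotientBot.trans (MulEquiv.ofBijective f hbij))⟩

end CfsgLib.Linear.Forty
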